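import Cfsg.Agent.CharInduce.CoprimeExt
import Cfsg.Agent.CharInduce.Correspondence
import Cfsg.Agent.H81.Gallagher
import Cfsg.Agent.BlockBasic.SingleBlock

/-!
# Degree-weighted sums of irreducible characters: shifts and norms
-/

set_option linter.unusedSectionVars false
set_option linter.style.haveILetI false

open scoped ComplexConjugate

namespace Cfsg.Agent.H25.WeightedSum

open CharBasic CharInduce

universe u

variable {G : Type u} [Group G] [Fintype G]

/-- The degree-weighted sum of a set of characters. -/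
noncomputable def wsum (U : Finset (IrrCharacter G)) (g : G) : ℂ :=
  ∑ χ ∈ U, (χ : G → ℂ) 1 * (χ : G → ℂ) g

/-- The weighted sum vanishes at the `p`-singular elements. -/
def Vanish (p : ℕ) (U : Finset (IrrCharacter G)) : Prop :=
  ∀ x : G, p ∣ orderOf x → wsum U x = 0

theorem isClassFunction_wsum (U : Finset (IrrCharacter G)) : IsClassFunction G (wsum U) := by
  intro g h
  simp only [wsum]
  exact Finset.sum_congr rfl fun χ _ => by rw [IsIrr.isClassFunction χ.2 g h]

/-- A class function acts on an irreducible character by a scalar. -/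
theorem sum_mul_apply {c : G → ℂ} (hc : IsClassFunction G c) (χ : IrrCharacter G) (x : G) :
    (χ : G → ℂ) 1 * ∑ g, c g * (χ : G → ℂ) (g * x) =
      (χ : G → ℂ) x * ∑ g, c g * (χ : G → ℂ) g := by
  have hshift : ∀ a : G, ∑ g, c g * (χ : G → ℂ) (g * x) =
      ∑ g, c g * (χ : G → ℂ) (x * (a * g * a⁻¹)) := fun a => by
    symm
    refine Fintype.sum_equiv (MulAut.conj a).toEquiv _ _ fun g => ?_
    show _ = c (a * g * a⁻¹) * (χ : G → ℂ) (a * g * a⁻¹ * x)
    rw [hc g a]
    congr 1
    rw [← IsIrr.isClassFunction χ.2 (a * g * a⁻¹ * x) x]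
    congr 1
    group
  refine mul_left_cancel₀ (show (Nat.card G : ℂ) ≠ 0 by simp [Nat.card_pos.ne']) ?_
  calc (Nat.card G : ℂ) * ((χ : G → ℂ) 1 * ∑ g, c g * (χ : G → ℂ) (g * x))
      = ∑ a : G, (χ : G → ℂ) 1 * ∑ g, c g * (χ : G → ℂ) (x * (a * g * a⁻¹)) := by
        simp only [← hshift, Finset.sum_const, Finset.card_univ, nsmul_eq_mul,
          Nat.card_eq_fintype_card]
    _ = ∑ g, c g * ((χ : G → ℂ) 1 * ∑ a : G, (χ : G → ℂ) (x * (a * g * a⁻¹))) := by
        simp only [Finset.mul_sum]
        rw [Finset.sum_comm]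
        exact Finset.sum_congr rfl fun g _ => Finset.sum_congr rfl fun a _ => by ring
    _ = _ := by
        simp only [H80.sum_conj_mul]
        simp only [Finset.mul_sum]
        exact Finset.sum_congr rfl fun g _ => by ring

/-- The same, for an invariant function on a normal subgroup. -/
theorem sum_normal_mul_apply {N : Subgroup G} [hN : N.Normal] [Fintype N] {f : N → ℂ}
    (hf : ∀ g : G, conjFun N f g = f) (χ : IrrCharacter G) (x : G) :
    (χ : G → ℂ) 1 * ∑ n : N, f n * (χ : G → ℂ) (n * x) =
      (χ : G → ℂ) x * ∑ n : N, f n * (χ : G → ℂ) n := by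
  have hc : IsClassFunction G (extendByZero N f) := by
    intro g h
    by_cases hg : g ∈ N
    · rw [extendByZero_of_mem _ hg, extendByZero_of_mem _ (hN.conj_mem g hg h)]
      have h2 := congrFun (hf h) ⟨g, hg⟩
      simp only [conjFun] at h2
      exact h2
    · rw [extendByZero_of_not_mem _ hg, extendByZero_of_not_mem]
      exact fun h' => hg (by simpa [mul_assoc] using hN.conj_mem _ h' h⁻¹)
  have h := sum_mul_apply hc χ x
  rwa [sum_extendByZero_mul f (fun g => (χ : G → ℂ) (g * x)),
    sum_extendByZero_mul f (fun g => (χ : G → ℂ) g)] at h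

/-- The value at one of a weighted sum is real. -/
theorem conj_wsum_one (U : Finset (IrrCharacter G)) : conj (wsum U 1) = wsum U 1 := by
  simp only [wsum, map_sum, map_mul]
  refine Finset.sum_congr rfl fun χ _ => ?_
  obtain ⟨b, -, hb⟩ := IsIrr.exists_degree χ.2
  rw [hb, Complex.conj_natCast]

/-- The norm of a weighted sum. -/
theorem sum_normSq_wsum (U : Finset (IrrCharacter G)) :
    ((∑ g, Complex.normSq (wsum U g) : ℝ) : ℂ) = (Nat.card G : ℂ) * wsum U 1 := by
  classical
  rw [Complex.ofReal_sum]
  simp only [← Complex.mul_conj]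
  have h : classInner (wsum U) (wsum U) = wsum U 1 := by
    have e : wsum U = ∑ χ ∈ U, (χ : G → ℂ) 1 • (χ : G → ℂ) := by
      funext g; simp [wsum, Finset.sum_apply]
    conv_lhs => rw [e]
    rw [classInner_sum_left]
    refine Finset.sum_congr rfl fun χ hχ => ?_
    rw [classInner_smul_left, classInner_sum_right, Finset.sum_eq_single χ]
    · rw [CharBasic.classInner_smul_right, classInner_irr_self χ.2, mul_one]
      obtain ⟨b, -, hb⟩ := IsIrr.exists_degree χ.2
      rw [hb, Complex.conj_natCast]
    · intro ψ _ hne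
      rw [CharBasic.classInner_smul_right, classInner_irr_of_ne χ.2 ψ.2
        (fun e => hne (Subtype.ext e).symm), mul_zero]
    · exact fun h' => absurd hχ h'
  rw [classInner_def] at h
  rw [← h, ← mul_assoc, mul_inv_cancel₀ (card_ne_zero_complex G), one_mul]

/-- A character restricting to a multiple of an extendable character is a multiple of the
extension on each coset. -/
theorem exists_eq_mul_fun {N : Subgroup G} [N.Normal] [Fintype N] {η : G → ℂ}
    (hη : IsIrrCharacter G η) (hres : IsIrrCharacter N (fun n : N => η n)) {χ : G → ℂ}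
    (hχ : IsCharacter G χ) {e : ℂ} (he : ∀ n : N, χ n = e * η n) :
    ∃ F : G ⧸ N → ℂ, ∀ g, χ g = η g * F (g : G ⧸ N) := by
  classical
  have hβ : ∀ ψ : IrrCharacter G, classInner χ (ψ : G → ℂ) ≠ 0 →
      ∃ β : IrrCharacter (G ⧸ N), (ψ : G → ℂ) = fun g => η g * H81.inflate N β g := by
    intro ψ hψ
    refine H81.exists_eq_mul_inflate N hη hres ψ.2 fun h0 => ?_
    obtain ⟨r, hr, her⟩ := IsChar.exists_eq_add hχ ψ.2 hψ
    have hψN := IsChar.res (IsIrr.isCharacter ψ.2) N
    refine IsIrr.one_ne_zero ψ.2 (congrFun (eq_zero_of_classInner_eq_zero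
      (CharBasic.IsChar.isClassFunction hψN) fun φ => ?_) 1)
    by_cases hφ : (φ : N → ℂ) = fun n : N => η n
    · rw [hφ]; exact h0
    · have h1 : classInner (fun n : N => χ n) (φ : N → ℂ) = 0 := by
        rw [show (fun n : N => χ n) = e • (fun n : N => η n) from funext he, classInner_smul_left,
          classInner_irr_of_ne hres φ.2 (Ne.symm hφ), mul_zero]
      obtain ⟨a, ha⟩ := classInner_isChar_nat hψN (IsIrr.isCharacter φ.2)
      obtain ⟨b, hb⟩ := classInner_isChar_nat (IsChar.res hr N) (IsIrr.isCharacter φ.2)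
      rw [show (fun n : N => χ n) = (fun n : N => (ψ : G → ℂ) n) + fun n : N => r n from
          funext fun n => congrFun her n, classInner_add_left, ha, hb, ← Nat.cast_add,
        Nat.cast_eq_zero] at h1
      rw [ha, Nat.cast_eq_zero]
      omega
  choose β hβ using hβ
  refine ⟨fun q => ∑ ψ : IrrCharacter G, if h : classInner χ (ψ : G → ℂ) ≠ 0 then
    classInner χ (ψ : G → ℂ) * (β ψ h : G ⧸ N → ℂ) q else 0, fun g => ?_⟩
  conv_lhs => rw [classFunction_expansion (CharBasic.IsChar.isClassFunction hχ)]
  rw [Finset.sum_apply, Finset.mul_sum]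
  refine Finset.sum_congr rfl fun ψ _ => ?_
  by_cases h : classInner χ (ψ : G → ℂ) ≠ 0
  · rw [dif_pos h, Pi.smul_apply, smul_eq_mul, congrFun (hβ ψ h) g, H81.inflate]
    ring
  · rw [dif_neg h, not_not.1 h]
    simp

/-- On each coset an extension has norm the order of the subgroup (abelian quotient). -/
theorem sum_normSq_coset_of_comm {N : Subgroup G} [N.Normal] [Fintype N] {η : G → ℂ}
    (hη : IsIrrCharacter G η) (hres : IsIrrCharacter N (fun n : N => η n))
    (hcomm : ∀ a b : G ⧸ N, a * b = b * a) (y : G) :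
    ∑ n : N, Complex.normSq (η (n * y)) = (Nat.card N : ℝ) := by
  classical
  let f : G ⧸ N → ℂ := fun q => if q = (y : G ⧸ N) then 1 else 0
  let _ : Fintype (G ⧸ N) := Fintype.ofFinite _
  have hf : IsClassFunction (G ⧸ N) f := fun a b => by rw [hcomm b a, mul_inv_cancel_right]
  have h := H81.classInner_mul_conj N hη hres hf
  have hfc : ∀ q, conj (f q) = f q := fun q => by simp only [f]; split_ifs <;> simp
  rw [classInner_def, classInner_def] at h
  simp only [map_mul, H81.inflate, hfc, one_mul] at h
  simp only [f, mul_ite, mul_one, mul_zero, Finset.sum_ite_eq', Finset.mem_univ, if_true,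
    ← Finset.sum_filter] at h
  have himg : (Finset.univ.filter fun g : G => (g : G ⧸ N) = (y : G ⧸ N)) =
      Finset.univ.image fun n : N => (n : G) * y := by
    ext g
    simp only [Finset.mem_filter, Finset.mem_univ, true_and, Finset.mem_image]
    constructor
    · intro e
      exact ⟨⟨g * y⁻¹, by
        rw [← QuotientGroup.eq_one_iff, QuotientGroup.mk_mul, QuotientGroup.mk_inv, e,
          mul_inv_cancel]⟩, by simp⟩
    · rintro ⟨n, rfl⟩
      rw [QuotientGroup.mk_mul, (QuotientGroup.eq_one_iff _).2 n.2, one_mul]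
  rw [himg, Finset.sum_image fun a _ b _ e => Subtype.ext (mul_right_cancel e)] at h
  simp only [Complex.mul_conj, ← Complex.ofReal_sum] at h
  have hcard : (Nat.card G : ℂ) = (Nat.card (G ⧸ N) : ℂ) * (Nat.card N : ℂ) := by
    rw [Subgroup.card_eq_card_quotient_mul_card_subgroup N]; push_cast; rfl
  rw [hcard] at h
  have h1 := card_ne_zero_complex (G ⧸ N)
  have h2 := card_ne_zero_complex N
  field_simp at h
  exact_mod_cast h

end Cfsg.Agent.H25.WeightedSum
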