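import Cfsg.Agent.H25.WeightedSum.Regular

/-!
# Functions cut out by an extension to an intermediate group
-/

set_option linter.unusedSectionVars false
set_option linter.style.haveILetI false

open scoped ComplexConjugate

namespace Cfsg.Agent.H25.WeightedSum

open CharBasic CharInduce

universe u

variable {G : Type u} [Group G] [Fintype G] {N : Subgroup G} [hNn : N.Normal] [Fintype N]

/-- A character with irreducible restriction is irreducible. -/
theorem isIrr_of_res (M : Subgroup G) [Fintype M] {χ : G → ℂ} (hχ : IsCharacter G χ)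
    (hres : IsIrrCharacter M (fun m : M => χ m)) : IsIrrCharacter G χ := by
  classical
  obtain ⟨ψ, hψ⟩ := CharInduce.exists_constituent hχ fun h =>
    IsIrr.one_ne_zero hres (by simpa using congrFun h 1)
  obtain ⟨r, hr, her⟩ := IsChar.exists_eq_add hχ ψ.2 hψ
  obtain ⟨a, ha, ha'⟩ := IsIrr.exists_degree ψ.2
  have hr0 : r = 0 := by
    by_contra hne
    have hrM : (fun m : M => r m) ≠ 0 := fun h => by
      obtain ⟨φ, hφ⟩ := CharInduce.exists_constituent hr hne
      obtain ⟨s, hs, hes⟩ := IsChar.exists_eq_add hr φ.2 hφ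
      obtain ⟨b, hb, hb'⟩ := IsIrr.exists_degree φ.2
      obtain ⟨c, hc⟩ := CharBasic.IsChar.exists_degree hs
      have h1 : r 1 = 0 := by simpa using congrFun h 1
      rw [congrFun hes 1, Pi.add_apply, hb', hc, ← Nat.cast_add, Nat.cast_eq_zero] at h1
      omega
    obtain ⟨φ, hφ⟩ := CharInduce.exists_constituent (IsChar.res hr M) hrM
    obtain ⟨φ', hφ'⟩ := CharInduce.exists_constituent (IsChar.res (IsIrr.isCharacter ψ.2) M)
      fun h => IsIrr.one_ne_zero ψ.2 (by simpa using congrFun h 1)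
    have hsplit : (fun m : M => χ m) =
        (fun m : M => (ψ : G → ℂ) m) + fun m : M => r m := funext fun m => congrFun her m
    have key : ∀ ξ : IrrCharacter M, classInner (fun m : M => r m) (ξ : M → ℂ) ≠ 0 ∨
        classInner (fun m : M => (ψ : G → ℂ) m) (ξ : M → ℂ) ≠ 0 →
        (ξ : M → ℂ) = fun m : M => χ m := by
      intro ξ hξ
      by_contra hne'
      obtain ⟨i, hi⟩ := classInner_isChar_nat (IsChar.res hr M) (IsIrr.isCharacter ξ.2)
      obtain ⟨j, hj⟩ := classInner_isChar_nat (IsChar.res (IsIrr.isCharacter ψ.2) M)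
        (IsIrr.isCharacter ξ.2)
      have h0 := classInner_irr_of_ne hres ξ.2 (Ne.symm hne')
      rw [hsplit, classInner_add_left, hi, hj, ← Nat.cast_add, Nat.cast_eq_zero] at h0
      rw [hi, hj, Nat.cast_ne_zero, Nat.cast_ne_zero] at hξ
      omega
    have e1 := key φ (Or.inl hφ)
    have e2 := key φ' (Or.inr hφ')
    obtain ⟨i, hi⟩ := classInner_isChar_nat (IsChar.res hr M) (IsIrr.isCharacter φ.2)
    obtain ⟨j, hj⟩ := classInner_isChar_nat (IsChar.res (IsIrr.isCharacter ψ.2) M)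
      (IsIrr.isCharacter φ'.2)
    have h1 := classInner_irr_self hres
    conv_lhs at h1 => arg 1; rw [hsplit]
    rw [classInner_add_left] at h1
    rw [hi, Nat.cast_ne_zero] at hφ
    rw [hj, Nat.cast_ne_zero] at hφ'
    rw [e1] at hi
    rw [e2] at hj
    rw [hi, hj, ← Nat.cast_add, Nat.cast_eq_one] at h1
    omega
  rw [her, hr0, add_zero]
  exact ψ.2

/-- The common value of the extension and the character it extends. -/
structure ExtData (H : Subgroup G) (ϑ : N → ℂ) where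
  /-- The extension. -/
  η : H → ℂ
  irr : IsIrrCharacter H η
  le : N ≤ H
  res : ∀ n : N, η ⟨n, le n.2⟩ = ϑ n
  base : IsIrrCharacter N ϑ

namespace ExtData

variable {H : Subgroup G} {ϑ : N → ℂ} (D : ExtData H ϑ)

/-- The extension as a function on the whole group. -/
noncomputable def fn : G → ℂ := extendByZero H D.η

theorem fn_coe (h : H) : D.fn h = D.η h := extendByZero_coe D.η h

theorem res_sub [Fintype (N.subgroupOf H)] :
    IsIrrCharacter (N.subgroupOf H) (fun n : N.subgroupOf H => D.η n) := by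
  have e : (fun n : N.subgroupOf H => D.η n) =
      fun n => ϑ ((Subgroup.subgroupOfEquivOfLe D.le) n) := funext fun n => by
    rw [← D.res]
    rfl
  rw [e]
  exact IsIrr.comp D.base (Subgroup.subgroupOfEquivOfLe D.le).toMonoidHom
    (Subgroup.subgroupOfEquivOfLe D.le).surjective

/-- Characters over the base are multiples of the extension on cosets. -/
theorem exists_ratio (χ : IrrCharacter G) {e : ℂ} (he : ∀ n : N, (χ : G → ℂ) n = e * ϑ n)
    {x : G} (hx : x ∈ H) :
    ∃ a : ℂ, ∀ n : N, (χ : G → ℂ) (n * x) = a * D.fn (n * x) := by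
  classical
  let _ : Fintype H := Fintype.ofFinite _
  let _ : Fintype (N.subgroupOf H) := Fintype.ofFinite _
  obtain ⟨F, hF⟩ := exists_eq_mul_fun D.irr D.res_sub
    (IsChar.res (IsIrr.isCharacter χ.2) H) (e := e) fun n => by
      rw [show D.η n = ϑ ⟨(n : H), n.2⟩ from D.res ⟨(n : H), n.2⟩]
      exact he ⟨(n : H), n.2⟩
  refine ⟨F ((⟨x, hx⟩ : H) : H ⧸ N.subgroupOf H), fun n => ?_⟩
  have h := hF ⟨(n : G) * x, H.mul_mem (D.le n.2) hx⟩
  rw [← D.fn_coe] at h
  rw [h, mul_comm]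
  congr 1
  rw [show (⟨(n : G) * x, H.mul_mem (D.le n.2) hx⟩ : H) = ⟨n, D.le n.2⟩ * ⟨x, hx⟩ from rfl,
    QuotientGroup.mk_mul, (QuotientGroup.eq_one_iff (⟨n, D.le n.2⟩ : H)).2 (Subgroup.mem_subgroupOf.2 n.2), one_mul]

/-- The norm of the extension on a coset. -/
theorem sum_normSq {y : G} (hy : y ∈ H) :
    ∑ n : N, Complex.normSq (D.fn (n * y)) = (Nat.card N : ℝ) := by
  classical
  set K := N ⊔ Subgroup.zpowers y
  have hKH : K ≤ H := sup_le D.le (Subgroup.zpowers_le.2 hy)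
  have hNK : N ≤ K := le_sup_left
  have hyK : y ∈ K := le_sup_right (α := Subgroup G) (Subgroup.mem_zpowers y)
  let _ : Fintype H := Fintype.ofFinite _
  let _ : Fintype K := Fintype.ofFinite _
  let _ : Fintype (N.subgroupOf K) := Fintype.ofFinite _
  let ηK : K → ℂ := fun k => D.η (Subgroup.inclusion hKH k)
  have hres : IsIrrCharacter (N.subgroupOf K) (fun n : N.subgroupOf K => ηK n) := by
    have e : (fun n : N.subgroupOf K => ηK n) =
        fun n => ϑ ((Subgroup.subgroupOfEquivOfLe hNK) n) := funext fun n => by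
      rw [← D.res]
      rfl
    rw [e]
    exact IsIrr.comp D.base (Subgroup.subgroupOfEquivOfLe hNK).toMonoidHom
      (Subgroup.subgroupOfEquivOfLe hNK).surjective
  have hirr : IsIrrCharacter K ηK :=
    isIrr_of_res _ (IsChar.comp (IsIrr.isCharacter D.irr) (Subgroup.inclusion hKH)) hres
  have hgen : ∀ q : K ⧸ N.subgroupOf K, ∃ i : ℤ,
      q = ((⟨y, hyK⟩ : K) : K ⧸ N.subgroupOf K) ^ i := by
    intro q
    obtain ⟨⟨k, hk⟩, rfl⟩ := QuotientGroup.mk_surjective q
    obtain ⟨a, ha, b, hb, hab⟩ := Subgroup.mem_sup_of_normal_left.1 hk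
    obtain ⟨i, rfl⟩ := Subgroup.mem_zpowers_iff.1 hb
    refine ⟨i, ?_⟩
    rw [show (⟨k, hk⟩ : K) = ⟨a, hNK ha⟩ * (⟨y, hyK⟩ : K) ^ i from Subtype.ext (by simp [hab]),
      QuotientGroup.mk_mul, (QuotientGroup.eq_one_iff _).2 (Subgroup.mem_subgroupOf.2 ha), one_mul,
      QuotientGroup.mk_zpow]
  have h := sum_normSq_coset_of_comm hirr hres (fun a b => by
    obtain ⟨i, rfl⟩ := hgen a
    obtain ⟨j, rfl⟩ := hgen b
    rw [← zpow_add, ← zpow_add, add_comm]) ⟨y, hyK⟩
  rw [Nat.card_congr (Subgroup.subgroupOfEquivOfLe hNK).toEquiv] at h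
  rw [← h]
  symm
  refine Fintype.sum_equiv (Subgroup.subgroupOfEquivOfLe hNK).toEquiv _ _ fun n => ?_
  congr 1
  exact (D.fn_coe (Subgroup.inclusion hKH ((n : K) * ⟨y, hyK⟩))).symm

/-- Convolution with the conjugate of the base fixes the extension up to a factor. -/
theorem sum_conj_mul {d : ℂ} (hd : ϑ 1 = d) (hinv : ∀ g : G, conjFun N ϑ g = ϑ) {z : G}
    (hz : z ∈ H) :
    d * ∑ m : N, conj (ϑ m) * D.fn (m * z) = (Nat.card N : ℂ) * D.fn z := by
  classical
  let _ : Fintype H := Fintype.ofFinite _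
  let _ : Fintype (N.subgroupOf H) := Fintype.ofFinite _
  let e := Subgroup.subgroupOfEquivOfLe D.le
  have h := sum_normal_mul_apply (G := H) (N := N.subgroupOf H)
    (f := fun n => conj (ϑ (e n))) (fun g => funext fun n => by
      simp only [CharInduce.conjFun]
      congr 1
      refine Eq.trans ?_ (congrFun (hinv (g : G)) (e n))
      rfl) ⟨D.η, D.irr⟩ ⟨z, hz⟩
  have h1 : D.η 1 = d := by
    rw [← hd, ← D.res]
    rfl
  have hsum : ∀ F : N → ℂ, ∑ n : N.subgroupOf H, F (e n) = ∑ m : N, F m := fun F =>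
    Fintype.sum_equiv e.toEquiv _ _ fun n => rfl
  have hr : ∑ n : N.subgroupOf H, conj (ϑ (e n)) * D.η n = (Nat.card N : ℂ) := by
    rw [Fintype.sum_equiv e.toEquiv _ (fun m : N => conj (ϑ m) * ϑ m) fun n => by
      show _ = conj (ϑ (e n)) * ϑ (e n)
      congr 1
      exact D.res ⟨((n : H) : G), n.2⟩]
    have h2 := classInner_irr_self D.base
    rw [classInner_def] at h2
    calc ∑ m : N, conj (ϑ m) * ϑ m
        = (Nat.card N : ℂ) * ((Nat.card N : ℂ)⁻¹ * ∑ m : N, ϑ m * conj (ϑ m)) := by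
          rw [← mul_assoc, mul_inv_cancel₀ (card_ne_zero_complex N), one_mul]
          exact Finset.sum_congr rfl fun m _ => mul_comm _ _
      _ = _ := by rw [h2, mul_one]
  simp only [h1, hr] at h
  rw [show D.fn z = D.η ⟨z, hz⟩ from D.fn_coe ⟨z, hz⟩, mul_comm (Nat.card N : ℂ), ← h]
  congr 1
  symm
  refine Fintype.sum_equiv e.toEquiv _ _ fun n => ?_
  show _ = conj (ϑ (e n)) * D.fn ((e n : G) * z)
  congr 1
  exact (D.fn_coe ((n : H) * ⟨z, hz⟩)).symm

end ExtData

/-- An invariant character extends over a cyclic extension. -/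
theorem exists_extData {ϑ : N → ℂ} (hϑ : IsIrrCharacter N ϑ)
    (hinv : ∀ g : G, conjFun N ϑ g = ϑ) (x : G) :
    Nonempty (ExtData (N ⊔ Subgroup.zpowers x) ϑ) := by
  classical
  set H := N ⊔ Subgroup.zpowers x
  have hNH : N ≤ H := le_sup_left
  have hxH : x ∈ H := le_sup_right (α := Subgroup G) (Subgroup.mem_zpowers x)
  let _ : Fintype (N.subgroupOf H) := Fintype.ofFinite _
  let e := Subgroup.subgroupOfEquivOfLe hNH
  have hϑ' : IsIrrCharacter (N.subgroupOf H) (fun n => ϑ (e n)) :=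
    IsIrr.comp hϑ e.toMonoidHom e.surjective
  obtain ⟨m, ρ, hρ, hρc⟩ := id hϑ'
  haveI := hρ
  obtain ⟨η, hη, hres⟩ := H35.Extend.exists_extension_cyclic ρ (fun g n => by
    rw [hρc]
    exact congrFun (hinv (g : G)) (e n)) (by
    refine ⟨⟨((⟨x, hxH⟩ : H) : H ⧸ N.subgroupOf H), fun q => ?_⟩⟩
    obtain ⟨⟨k, hk⟩, rfl⟩ := QuotientGroup.mk_surjective q
    obtain ⟨a, ha, b, hb, hab⟩ := Subgroup.mem_sup_of_normal_left.1 hk
    obtain ⟨i, rfl⟩ := Subgroup.mem_zpowers_iff.1 hb
    refine Subgroup.mem_zpowers_iff.2 ⟨i, ?_⟩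
    rw [show (⟨k, hk⟩ : H) = ⟨a, hNH ha⟩ * (⟨x, hxH⟩ : H) ^ i from Subtype.ext (by simp [hab]),
      QuotientGroup.mk_mul, (QuotientGroup.eq_one_iff (⟨a, hNH ha⟩ : H)).2
      (Subgroup.mem_subgroupOf.2 ha), one_mul, QuotientGroup.mk_zpow])
  refine ⟨⟨η, hη, hNH, fun n => ?_, hϑ⟩⟩
  exact (hres ⟨⟨n, hNH n.2⟩, n.2⟩).trans (congrFun hρc _)

end Cfsg.Agent.H25.WeightedSum
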