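import Cfsg.Agent.H25.WeightedSum.Extension

/-!
# Vanishing outside a normal subgroup, invariant case

Comparing the norm of a weighted sum with the norm of its part above an extension to the upper
`p`-core shows that it lives on the normal `p'`-subgroup.
-/

set_option linter.unusedSectionVars false
set_option linter.style.haveILetI false

open scoped ComplexConjugate

namespace Cfsg.Agent.H25.WeightedSum

open CharBasic CharInduce

universe u

variable {G : Type u} [Group G] [Fintype G] {p : ℕ} [hp : Fact p.Prime]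

/-- Projection of a weighted sum to the characters above an invariant character. -/
theorem conv_wsum {N : Subgroup G} [N.Normal] [Fintype N] {ϑ : N → ℂ} (hϑ : IsIrrCharacter N ϑ)
    (hinv : ∀ g : G, conjFun N ϑ g = ϑ) (U : Finset (IrrCharacter G))
    [DecidablePred fun χ : IrrCharacter G => classInner (fun n : N => (χ : G → ℂ) n) ϑ ≠ 0] (z : G) :
    ϑ 1 * ∑ m : N, conj (ϑ m) * wsum U (m * z) = (Nat.card N : ℂ) *
      wsum (U.filter fun χ : IrrCharacter G => classInner (fun n : N => (χ : G → ℂ) n) ϑ ≠ 0) z := by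
  classical
  have hf : ∀ g : G, conjFun N (fun n => conj (ϑ n)) g = fun n => conj (ϑ n) := fun g =>
    funext fun n => congrArg conj (congrFun (hinv g) n)
  simp only [wsum, Finset.mul_sum, Finset.sum_filter]
  rw [Finset.sum_comm]
  refine Finset.sum_congr rfl fun χ _ => ?_
  have h := sum_normal_mul_apply hf χ z
  have hc : ∑ n : N, conj (ϑ n) * (χ : G → ℂ) n =
      (Nat.card N : ℂ) * classInner (fun n : N => (χ : G → ℂ) n) ϑ := by
    rw [classInner_def, ← mul_assoc, mul_inv_cancel₀ (card_ne_zero_complex N), one_mul]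
    exact Finset.sum_congr rfl fun n _ => mul_comm _ _
  rw [hc] at h
  have hsum : ∑ m : N, ϑ 1 * (conj (ϑ m) * ((χ : G → ℂ) 1 * (χ : G → ℂ) (m * z))) =
      ϑ 1 * ((χ : G → ℂ) 1 * ∑ m : N, conj (ϑ m) * (χ : G → ℂ) (m * z)) := by
    rw [Finset.mul_sum, Finset.mul_sum]
    exact Finset.sum_congr rfl fun m _ => by ring
  rw [hsum, h]
  split_ifs with hne
  · have hr := congrFun (res_eq_smul_of_invariant N χ.2 hϑ hinv hne) 1
    simp only [Pi.smul_apply, smul_eq_mul, OneMemClass.coe_one] at hr
    rw [hr]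
    ring
  · rw [not_not.1 hne]
    ring

/-- The value on a coset is the multiple of the extension. -/
theorem exists_ratio_wsum {N H : Subgroup G} [N.Normal] [Fintype N] {ϑ : N → ℂ}
    (hinv : ∀ g : G, conjFun N ϑ g = ϑ) (D : ExtData H ϑ) (U : Finset (IrrCharacter G))
    (hover : ∀ χ ∈ U, classInner (fun n : N => (χ : G → ℂ) n) ϑ ≠ 0) {x : G} (hx : x ∈ H) :
    ∃ a : ℂ, ∀ n : N, wsum U (n * x) = a * D.fn (n * x) := by
  classical
  have h : ∀ χ ∈ U, ∃ a : ℂ, ∀ n : N, (χ : G → ℂ) (n * x) = a * D.fn (n * x) := fun χ hχ =>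
    D.exists_ratio χ (fun n => congrFun (res_eq_smul_of_invariant N χ.2 D.base hinv (hover χ hχ)) n)
      hx
  choose a ha using h
  refine ⟨∑ χ ∈ U.attach, (χ.1 : G → ℂ) 1 * a χ.1 χ.2, fun n => ?_⟩
  rw [wsum, ← Finset.sum_attach, Finset.sum_mul]
  exact Finset.sum_congr rfl fun χ _ => by rw [ha χ.1 χ.2 n]; ring

/-- Weighted sums over an invariant character vanishing at singular elements live on the
`p'`-subgroup. -/
theorem wsum_eq_zero_of_not_mem {L N : Subgroup G} [hLn : L.Normal] [N.Normal] [Fintype L]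
    [Fintype N] (hLN : L ≤ N) (hL : ¬ p ∣ Nat.card L)
    (hidx : ∃ k, (L.subgroupOf N).index = p ^ k) {θ : L → ℂ} (hθ : IsIrrCharacter L θ)
    (hinv : ∀ g : G, conjFun L θ g = θ)
    (hcent : ∀ x : G, ¬ p ∣ orderOf x → (∀ q ∈ N, q * x * q⁻¹ * x⁻¹ ∈ L) → x ∈ L)
    (U : Finset (IrrCharacter G))
    (hover : ∀ χ ∈ U, classInner (fun l : L => (χ : G → ℂ) l) θ ≠ 0) (hvan : Vanish p U) :
    ∀ x : G, x ∉ L → wsum U x = 0 := by
  classical
  obtain ⟨ϑ, hϑ, hϑL, hϑinv⟩ := exists_invariant_extension hLN hL hidx hθ hinv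
  have hd0 : θ 1 ≠ 0 := IsIrr.one_ne_zero hθ
  have hϑ1 : ϑ 1 = θ 1 := by
    rw [← hϑL 1]
    rfl
  set U' := U.filter fun χ : IrrCharacter G => classInner (fun n : N => (χ : G → ℂ) n) ϑ ≠ 0
  have hU' : ∀ χ ∈ U', classInner (fun n : N => (χ : G → ℂ) n) ϑ ≠ 0 := fun χ hχ =>
    (Finset.mem_filter.1 hχ).2
  have hconv := conv_wsum hϑ hϑinv U
  -- the regular elements of the upper core lie in the subgroup
  have hNreg : ∀ n ∈ N, ¬ p ∣ orderOf n → n ∈ L := fun n hn hr =>
    (Subgroup.mem_subgroupOf (h := ⟨n, hn⟩)).1 (BlockBasic.mem_of_regular (G := N) hidx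
      (by rwa [Subgroup.orderOf_mk]))
  -- the value at one
  have hone : (Nat.card N : ℂ) * wsum U' 1 = (Nat.card L : ℂ) * wsum U 1 := by
    rw [← hconv 1]
    have hres : ∀ l : L, wsum U (l : G) = wsum U 1 / θ 1 * θ l := fun l => by
      rw [wsum, wsum, Finset.sum_div, Finset.sum_mul]
      refine Finset.sum_congr rfl fun χ hχ => ?_
      have hr := res_eq_smul_of_invariant L χ.2 hθ hinv (hover χ hχ)
      have h1 := congrFun hr l
      have h2 := congrFun hr 1
      simp only [Pi.smul_apply, smul_eq_mul, OneMemClass.coe_one] at h1 h2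
      rw [h1, h2]
      field_simp
    have hL' : ∑ m : N, conj (ϑ m) * wsum U ((m : G) * 1) =
        ∑ l : L, conj (θ l) * wsum U (l : G) := by
      symm
      refine Fintype.sum_of_injective (Subgroup.inclusion hLN) (Subgroup.inclusion_injective hLN)
        _ _ (fun m hm => ?_) fun l => ?_
      · rw [mul_one]
        by_cases hr : p ∣ orderOf (m : G)
        · rw [hvan _ hr, mul_zero]
        · exact absurd ⟨⟨m, hNreg m m.2 hr⟩, rfl⟩ hm
      · rw [mul_one, Subgroup.coe_inclusion]
        rw [← hϑL l]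
        rfl
    rw [hL', hϑ1]
    simp only [hres]
    have h2 := classInner_irr_self hθ
    rw [classInner_def] at h2
    have h3 : ∑ l : L, conj (θ l) * (wsum U 1 / θ 1 * θ l) =
        wsum U 1 / θ 1 * ((Nat.card L : ℂ) * ((Nat.card L : ℂ)⁻¹ * ∑ l : L, θ l * conj (θ l))) := by
      rw [← mul_assoc (Nat.card L : ℂ), mul_inv_cancel₀ (card_ne_zero_complex L), one_mul,
        Finset.mul_sum]
      exact Finset.sum_congr rfl fun l _ => by ring
    rw [h3, h2, mul_one]
    field_simp
  -- the defect of one coset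
  let δ : G → ℝ := fun g => (Nat.card N : ℝ) * Complex.normSq (wsum U' g) -
    (Nat.card L : ℝ) * Complex.normSq (wsum U g)
  have htot : ∑ g, δ g = 0 := by
    apply Complex.ofReal_injective
    simp only [δ, Finset.sum_sub_distrib, ← Finset.mul_sum, Complex.ofReal_sub, Complex.ofReal_mul,
      sum_normSq_wsum, Complex.ofReal_natCast, Complex.ofReal_zero]
    linear_combination (Nat.card G : ℂ) * hone
  -- the computation on a coset with a regular element
  have hcoset : ∀ x : G, ¬ p ∣ orderOf x → 0 ≤ ∑ n : N, δ (n * x) ∧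
      (∑ n : N, δ (n * x) = 0 → x ∈ L ∨ wsum U x = 0) := by
    intro x hx
    obtain ⟨Dn⟩ := exists_extData hϑ hϑinv x
    set H := N ⊔ Subgroup.zpowers x
    have hxH : x ∈ H := le_sup_right (α := Subgroup G) (Subgroup.mem_zpowers x)
    have hNH : N ≤ H := le_sup_left
    let Dl : ExtData H θ :=
      { η := Dn.η, irr := Dn.irr, le := hLN.trans hNH, base := hθ,
        res := fun l => (Dn.res ⟨l, hLN l.2⟩).trans (hϑL l) }
    have hfn : Dl.fn = Dn.fn := rfl
    obtain ⟨a, ha⟩ := exists_ratio_wsum hinv Dl U hover hxH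
    obtain ⟨b, hb⟩ := exists_ratio_wsum hϑinv Dn U' hU' hxH
    set R := Finset.univ.filter fun n : N => ¬ p ∣ orderOf ((n : G) * x) with hR
    -- regular elements of the coset are conjugates of elements of the small coset
    have hreg : ∀ n : N, n ∈ R → wsum U (n * x) = a * Dn.fn (n * x) := by
      intro n hn
      have hn' := (Finset.mem_filter.1 hn).2
      have hQ : IsPGroup p (N.map (QuotientGroup.mk' L)) := by
        obtain ⟨k, hk⟩ := hidx
        refine IsPGroup.of_card (n := k) ?_
        rw [Cores.card_map_mk', ← hk]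
        rfl
      haveI : (N.map (QuotientGroup.mk' L)).Normal :=
        Subgroup.Normal.map inferInstance _ (QuotientGroup.mk'_surjective L)
      obtain ⟨_, ⟨q, hq, rfl⟩, hqe⟩ := exists_conj_regular (N.map (QuotientGroup.mk' L)) hQ
        (x := (x : G ⧸ L)) (y := (((n : G) * x : G) : G ⧸ L))
        (by rwa [dvd_orderOf_mk_iff L hL]) (by rwa [dvd_orderOf_mk_iff L hL])
        ⟨n, n.2, by simp⟩
      have hl : q⁻¹ * ((n : G) * x) * q * x⁻¹ ∈ L := by
        rw [← QuotientGroup.eq_one_iff]
        simp only [QuotientGroup.mk_mul, QuotientGroup.mk_inv] at hqe ⊢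
        rw [← hqe]
        show (q : G ⧸ L)⁻¹ * ((q : G ⧸ L) * (x : G ⧸ L) * (q : G ⧸ L)⁻¹) * (q : G ⧸ L) *
          (x : G ⧸ L)⁻¹ = 1
        group
      have he : (n : G) * x = q * ((q⁻¹ * ((n : G) * x) * q * x⁻¹) * x) * q⁻¹ := by group
      have hqH : q ∈ H := hNH hq
      rw [he, isClassFunction_wsum U _ q, ha ⟨_, hl⟩, hfn]
      congr 1
      exact (extendByZero_conj (IsIrr.isClassFunction Dn.irr) hqH _).symm
    have hsing : ∀ n : N, n ∉ R → wsum U (n * x) = 0 := fun n hn => by
      rw [hR, Finset.mem_filter, not_and, not_not] at hn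
      exact hvan _ (hn (Finset.mem_univ _))
    set r := ∑ n ∈ R, Complex.normSq (Dn.fn (n * x)) with hr
    -- the coefficient of the projection
    have hself : ∑ n : N, wsum U' (n * x) * conj (Dn.fn (n * x)) =
        ∑ n : N, wsum U (n * x) * conj (Dn.fn (n * x)) := by
      refine mul_left_cancel₀ (card_ne_zero_complex N) ?_
      calc (Nat.card N : ℂ) * ∑ n : N, wsum U' (n * x) * conj (Dn.fn (n * x))
          = ∑ n : N, ϑ 1 * (∑ m : N, conj (ϑ m) * wsum U (m * (n * x))) *
              conj (Dn.fn (n * x)) := by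
            rw [Finset.mul_sum]
            refine Finset.sum_congr rfl fun n _ => ?_
            rw [hconv, mul_assoc]
        _ = ∑ m : N, ∑ n : N, ϑ 1 * conj (ϑ m) * wsum U (((m * n : N) : G) * x) *
              conj (Dn.fn (n * x)) := by
            rw [Finset.sum_comm]
            refine Finset.sum_congr rfl fun n _ => ?_
            rw [Finset.mul_sum, Finset.sum_mul]
            refine Finset.sum_congr rfl fun m _ => ?_
            rw [Subgroup.coe_mul, mul_assoc (m : G)]
            ring
        _ = ∑ m : N, ∑ k : N, ϑ 1 * conj (ϑ m) * wsum U ((k : G) * x) *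
              conj (Dn.fn (((m⁻¹ * k : N) : G) * x)) := by
            refine Finset.sum_congr rfl fun m _ => ?_
            refine Fintype.sum_equiv (Equiv.mulLeft m) _ _ fun n => ?_
            simp
        _ = ∑ k : N, wsum U ((k : G) * x) *
              conj (ϑ 1 * ∑ m : N, conj (ϑ m) * Dn.fn (m * ((k : G) * x))) := by
            rw [Finset.sum_comm]
            refine Finset.sum_congr rfl fun k _ => ?_
            rw [map_mul, map_sum, Finset.mul_sum, Finset.mul_sum]
            refine Fintype.sum_equiv (Equiv.inv N) _ _ fun m => ?_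
            obtain ⟨d, -, hd⟩ := IsIrr.exists_degree hϑ
            rw [hd, Complex.conj_natCast, map_mul, Complex.conj_conj, Equiv.inv_apply,
              ← IsChar.inv_apply (IsIrr.isCharacter hϑ) m, Subgroup.coe_mul, mul_assoc ((m⁻¹ : N) : G)]
            ring
        _ = _ := by
            rw [Finset.mul_sum]
            refine Finset.sum_congr rfl fun k _ => ?_
            rw [Dn.sum_conj_mul rfl hϑinv (H.mul_mem (hNH k.2) hxH), map_mul,
              Complex.conj_natCast]
            ring
    have hbr : b * (Nat.card N : ℂ) = a * (r : ℂ) := by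
      have h1 : ∑ n : N, wsum U' (n * x) * conj (Dn.fn (n * x)) = b * (Nat.card N : ℂ) := by
        rw [← Complex.ofReal_natCast (Nat.card N), ← Dn.sum_normSq hxH, Complex.ofReal_sum,
          Finset.mul_sum]
        refine Finset.sum_congr rfl fun n _ => ?_
        rw [hb n, ← Complex.mul_conj]
        ring
      have h2 : ∑ n : N, wsum U (n * x) * conj (Dn.fn (n * x)) = a * (r : ℂ) := by
        rw [hr, Complex.ofReal_sum, Finset.mul_sum,
          ← Finset.sum_subset (Finset.subset_univ R) fun n _ hn => by rw [hsing n hn, zero_mul]]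
        refine Finset.sum_congr rfl fun n hn => ?_
        rw [hreg n hn, ← Complex.mul_conj]
        ring
      rw [← h1, ← h2, hself]
    have hA : ∑ n : N, Complex.normSq (wsum U' (n * x)) = Complex.normSq b * (Nat.card N : ℝ) := by
      rw [← Dn.sum_normSq hxH, Finset.mul_sum]
      exact Finset.sum_congr rfl fun n _ => by rw [hb n, Complex.normSq_mul]
    have hB : ∑ n : N, Complex.normSq (wsum U (n * x)) = Complex.normSq a * r := by
      rw [hr, Finset.mul_sum,
        ← Finset.sum_subset (Finset.subset_univ R) fun n _ hn => by rw [hsing n hn, map_zero]]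
      exact Finset.sum_congr rfl fun n hn => by rw [hreg n hn, Complex.normSq_mul]
    have hr0 : 0 ≤ r := Finset.sum_nonneg fun n _ => Complex.normSq_nonneg _
    have hb2 : Complex.normSq b * ((Nat.card N : ℝ) * (Nat.card N : ℝ)) =
        Complex.normSq a * (r * r) := by
      have := congrArg Complex.normSq hbr
      simpa [Complex.normSq_mul, Complex.normSq_natCast, Complex.normSq_ofReal] using this
    have hsum : ∑ n : N, δ (n * x) = Complex.normSq a * r * (r - (Nat.card L : ℝ)) := by
      simp only [δ, Finset.sum_sub_distrib, ← Finset.mul_sum]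
      rw [hA, hB]
      linear_combination hb2
    -- lower bounds for the regular part
    have hblock : ∀ q : N, q ∈ R →
        (∀ l : L, Subgroup.inclusion hLN l * q ∈ R) ∧
        ∑ n ∈ (Finset.univ.image fun l : L => Subgroup.inclusion hLN l * q),
          Complex.normSq (Dn.fn (n * x)) = (Nat.card L : ℝ) := by
      intro q hq
      refine ⟨fun l => Finset.mem_filter.2 ⟨Finset.mem_univ _, ?_⟩, ?_⟩
      · rw [Subgroup.coe_mul, Subgroup.coe_inclusion, mul_assoc, dvd_orderOf_mul_iff L hL l.2]
        exact (Finset.mem_filter.1 hq).2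
      · rw [Finset.sum_image fun l _ l' _ e => Subgroup.inclusion_injective hLN (mul_right_cancel e),
          ← Dl.sum_normSq (H.mul_mem (hNH q.2) hxH)]
        refine Finset.sum_congr rfl fun l _ => ?_
        rw [Subgroup.coe_mul, Subgroup.coe_inclusion, mul_assoc, hfn]
    have h1R : (1 : N) ∈ R := Finset.mem_filter.2 ⟨Finset.mem_univ _, by simpa using hx⟩
    have hsub : ∀ q : N, q ∈ R →
        (Finset.univ.image fun l : L => Subgroup.inclusion hLN l * q) ⊆ R := fun q hq n hn => by
      obtain ⟨l, -, rfl⟩ := Finset.mem_image.1 hn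
      exact (hblock q hq).1 l
    have hrL : (Nat.card L : ℝ) ≤ r := by
      rw [← (hblock 1 h1R).2]
      exact Finset.sum_le_sum_of_subset_of_nonneg (hsub 1 h1R) fun n _ _ => Complex.normSq_nonneg _
    refine ⟨hsum ▸ mul_nonneg (mul_nonneg (Complex.normSq_nonneg _) hr0)
      (sub_nonneg.2 hrL), fun h0 => ?_⟩
    by_cases hxL : x ∈ L
    · exact Or.inl hxL
    refine Or.inr ?_
    obtain ⟨q, hq, hqL⟩ : ∃ q ∈ N, q * x * q⁻¹ * x⁻¹ ∉ L := by
      by_contra hc
      push Not at hc
      exact hxL (hcent x hx hc)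
    have hn : q * x * q⁻¹ * x⁻¹ ∈ N := by
      rw [show q * x * q⁻¹ * x⁻¹ = q * (x * q⁻¹ * x⁻¹) by group]
      exact N.mul_mem hq (Subgroup.Normal.conj_mem inferInstance _ (N.inv_mem hq) x)
    have hqR : (⟨_, hn⟩ : N) ∈ R := Finset.mem_filter.2 ⟨Finset.mem_univ _, by
      show ¬ p ∣ orderOf (q * x * q⁻¹ * x⁻¹ * x)
      rw [inv_mul_cancel_right]
      exact fun h => hx (h.trans (dvd_of_eq
        (orderOf_injective (MulAut.conj q).toMonoidHom (MulAut.conj q).injective x)))⟩
    have h2L : (Nat.card L : ℝ) < r := by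
      have hdisj : Disjoint (Finset.univ.image fun l : L => Subgroup.inclusion hLN l * (1 : N))
          (Finset.univ.image fun l : L => Subgroup.inclusion hLN l * ⟨_, hn⟩) := by
        refine Finset.disjoint_left.2 fun n h1 h2 => ?_
        obtain ⟨l, -, rfl⟩ := Finset.mem_image.1 h1
        obtain ⟨l', -, he⟩ := Finset.mem_image.1 h2
        have he' : (l' : G) * (q * x * q⁻¹ * x⁻¹) = (l : G) * 1 := congrArg Subtype.val he
        rw [mul_one] at he'
        exact hqL (eq_inv_mul_iff_mul_eq.2 he' ▸ L.mul_mem (L.inv_mem l'.2) l.2)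
      have hle : (Nat.card L : ℝ) + Nat.card L ≤ r := by
        conv_lhs => congr; rw [← (hblock 1 h1R).2]; rfl; rw [← (hblock _ hqR).2]
        rw [← Finset.sum_union hdisj]
        exact Finset.sum_le_sum_of_subset_of_nonneg
          (Finset.union_subset (hsub 1 h1R) (hsub _ hqR)) fun n _ _ => Complex.normSq_nonneg _
      have : (0 : ℝ) < Nat.card L := by exact_mod_cast Nat.card_pos
      linarith
    rw [hsum] at h0
    have ha0 : a = 0 := by
      rw [← Complex.normSq_eq_zero]
      rcases mul_eq_zero.1 h0 with h | h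
      · rcases mul_eq_zero.1 h with h | h
        · exact h
        · linarith [(Nat.card L).cast_nonneg (α := ℝ)]
      · linarith
    have := ha 1
    rw [ha0, zero_mul, Subgroup.coe_one, one_mul] at this
    exact this
  -- every coset has non-negative defect, so all vanish
  have hnonneg : ∀ g : G, 0 ≤ ∑ n : N, δ (n * g) := by
    intro g
    by_cases hex : ∃ n : N, ¬ p ∣ orderOf ((n : G) * g)
    · obtain ⟨n₀, hn₀⟩ := hex
      have h := (hcoset _ hn₀).1
      rwa [Fintype.sum_equiv (Equiv.mulRight n₀) (fun n : N => δ (n * ((n₀ : G) * g)))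
        (fun n : N => δ (n * g)) fun n => by simp [mul_assoc]] at h
    · push Not at hex
      refine Finset.sum_nonneg fun n _ => ?_
      simp only [δ, hvan _ (hex n), map_zero, mul_zero, sub_zero]
      exact mul_nonneg (Nat.cast_nonneg _) (Complex.normSq_nonneg _)
  have hall : ∀ g : G, ∑ n : N, δ (n * g) = 0 := by
    refine fun g => (Finset.sum_eq_zero_iff_of_nonneg fun g _ => hnonneg g).1 ?_ g (Finset.mem_univ g)
    rw [Finset.sum_comm]
    refine Finset.sum_eq_zero fun n _ => ?_
    rw [Fintype.sum_equiv (Equiv.mulLeft (n : G)) (fun g => δ (n * g)) δ fun g => rfl, htot]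
  intro x hxL
  by_cases hx : p ∣ orderOf x
  · exact hvan x hx
  · exact ((hcoset x hx).2 (hall x)).resolve_left hxL

end Cfsg.Agent.H25.WeightedSum
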