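import Cfsg.Agent.H25.WeightedSum.Reduction

/-!
# A weighted sum vanishing at singular elements is supported by blocks
-/

set_option linter.unusedSectionVars false
set_option linter.style.haveILetI false

open scoped ComplexConjugate

namespace Cfsg.Agent.H25.WeightedSum

open CharBasic CharInduce BlockBasic

universe u

variable {p : ℕ} [hp : Fact p.Prime] {M : Ideal AlgInt}

theorem integ_aux (hM : IsPModular p M) (n : ℕ) :
    ∀ (G : Type u) [Group G] [Fintype G], Nat.card G ≤ n → IsPSolvable p G →
      ∀ U : Finset (IrrCharacter G), Vanish p U → Integ M U := by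
  induction n with
  | zero =>
    intro G _ _ h
    exact absurd (Nat.le_zero.1 h) Nat.card_pos.ne'
  | succ n ih =>
    intro G _ _ hn hs U
    classical
    induction U using Finset.strongInduction with
    | _ U ihU =>
      intro hvan
      rcases U.eq_empty_or_nonempty with rfl | ⟨χ₀, hχ₀⟩
      · intro g
        simp only [wsum, Finset.sum_empty, zero_div]
        exact memLocalRing_of_isIntegral hM isIntegral_zero
      let _ : Fintype (pPrimeCore p G) := Fintype.ofFinite _
      set L := pPrimeCore p G with hLdef
      have hL : ¬ p ∣ Nat.card L := Cores.not_dvd_card_pPrimeCore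
      obtain ⟨θ, hθ₀⟩ := BlockBasic.exists_constituent χ₀ L
      set U₁ := U.filter fun χ : IrrCharacter G =>
        classInner (fun l : L => (χ : G → ℂ) l) (θ : L → ℂ) ≠ 0 with hU₁
      have hv₁ : Vanish p U₁ := vanish_filter hL hvan θ.2 hθ₀
      have hover : ∀ χ ∈ U₁, classInner (fun l : L => (χ : G → ℂ) l) (θ : L → ℂ) ≠ 0 := fun χ hχ =>
        (Finset.mem_filter.1 hχ).2
      have hI₁ : Integ M U₁ := by
        by_cases hT : inertia L (θ : L → ℂ) = ⊤
        · exact integ_of_invariant hM hs hLdef θ.2
            (fun g => mem_inertia L |>.1 (hT ▸ Subgroup.mem_top g)) hover hv₁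
        · let _ : Fintype (inertia L (θ : L → ℂ)) := Fintype.ofFinite _
          refine integ_of_inertia hM hL θ.2 (fun V hV => ih _ ?_ (Cores.isPSolvable_subgroup hs _)
            V hV) hover hv₁
          have h1 : Nat.card (inertia L (θ : L → ℂ)) < Nat.card G :=
            lt_of_le_of_ne (Subgroup.card_le_card_group _) fun h =>
              hT ((Subgroup.card_eq_iff_eq_top _).1 h)
          omega
      have hsplit : ∀ g, wsum U g = wsum U₁ g + wsum (U \ U₁) g := fun g => by
        rw [wsum, wsum, wsum, add_comm, Finset.sum_sdiff (Finset.filter_subset _ U)]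
      have hlt : U \ U₁ ⊂ U := Finset.sdiff_ssubset (Finset.filter_subset _ U)
        ⟨χ₀, Finset.mem_filter.2 ⟨hχ₀, hθ₀⟩⟩
      have hI₂ := ihU _ hlt fun x hx => by
        have := hsplit x
        rwa [hvan x hx, hv₁ x hx, zero_add, eq_comm] at this
      intro g
      rw [hsplit, add_div]
      exact memLocalRing_add hM (hI₁ g) (hI₂ g)

/-- A set with a weighted sum vanishing at singular elements is a union of blocks. -/
theorem mem_of_sameBlock {G : Type u} [Group G] [Fintype G] (hM : IsPModular p M)
    (hs : IsPSolvable p G) {U : Finset (IrrCharacter G)} (hvan : Vanish p U) {χ ψ : IrrCharacter G}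
    (hχ : χ ∈ U) (hψ : SameBlock M (χ : G → ℂ) (ψ : G → ℂ)) : ψ ∈ U := by
  classical
  have hint := integ_aux hM _ G le_rfl hs U hvan
  have hcoeff : IsIntElt M (blockElem (U : Set (IrrCharacter G))) := fun g => by
    rw [coeff_blockElem, blockCoeff, finsum_mem_coe_finset, mul_comm, ← div_eq_mul_inv]
    have h := hint g⁻¹
    rw [wsum] at h
    simp only [IsChar.inv_apply (IsIrr.isCharacter (Subtype.prop _)) g] at h
    exact h
  have h := (sameBlock_iff_omega hM χ ψ).1 hψ _ (isCentralElt_blockElem _) hcoeff
  rw [omega_blockElem, omega_blockElem, if_pos (Finset.mem_coe.2 hχ)] at h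
  by_contra hne
  rw [if_neg (fun h' => hne (Finset.mem_coe.1 h')), sub_zero] at h
  have h1 := (memLocalIdeal_natCast_iff hM 1).1 (by exact_mod_cast h)
  exact hp.out.not_dvd_one h1

end Cfsg.Agent.H25.WeightedSum
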