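import Cfsg.Agent.H25.WeightedSum.Invariant

/-!
# Weighted sums vanishing at singular elements of `p`-solvable groups are integral
-/

set_option linter.unusedSectionVars false
set_option linter.style.haveILetI false

open scoped ComplexConjugate

namespace Cfsg.Agent.H25.WeightedSum

open CharBasic CharInduce BlockBasic

universe u

variable {G : Type u} [Group G] [Fintype G] {p : ℕ} [hp : Fact p.Prime] {M : Ideal AlgInt}

/-- The idempotent coefficients of the set are local integers. -/
def Integ (M : Ideal AlgInt) (U : Finset (IrrCharacter G)) : Prop :=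
  ∀ g : G, MemLocalRing M (wsum U g / (Nat.card G : ℂ))

/-- The part over one orbit of characters of a normal `p'`-subgroup still vanishes. -/
theorem vanish_filter {L : Subgroup G} [L.Normal] [Fintype L] (hL : ¬ p ∣ Nat.card L)
    {U : Finset (IrrCharacter G)} (hvan : Vanish p U) {χ₀ : IrrCharacter G} {θ : L → ℂ}
    (hθ : IsIrrCharacter L θ) (h₀ : classInner (fun l : L => (χ₀ : G → ℂ) l) θ ≠ 0)
    [DecidablePred fun χ : IrrCharacter G => classInner (fun l : L => (χ : G → ℂ) l) θ ≠ 0] :
    Vanish p (U.filter fun χ : IrrCharacter G =>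
      classInner (fun l : L => (χ : G → ℂ) l) θ ≠ 0) := by
  classical
  set r₀ : L → ℂ := fun l => (χ₀ : G → ℂ) l with hr₀
  set s := classInner r₀ r₀ with hs
  have h01 : (χ₀ : G → ℂ) 1 ≠ 0 := IsIrr.one_ne_zero χ₀.2
  have hs0 : s ≠ 0 := fun h => h01 (by simpa [r₀] using congrFun (classInner_self_eq_zero.1 h) 1)
  have hprop : ∀ χ : IrrCharacter G, classInner (fun l : L => (χ : G → ℂ) l) θ ≠ 0 →
      ∀ l : L, (χ : G → ℂ) l = (χ : G → ℂ) 1 / (χ₀ : G → ℂ) 1 * (χ₀ : G → ℂ) l := by
    intro χ hχ l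
    have hI := card_ne_zero_complex (inertia L θ)
    have ha := clifford_avg L χ.2 hθ hχ
    have hb := clifford_avg L χ₀.2 hθ h₀
    have e1 := congrFun ha l
    have e2 := congrFun hb l
    have d1 := clifford_degree L χ.2 hθ hχ
    have d2 := clifford_degree L χ₀.2 hθ h₀
    simp only [Pi.smul_apply, smul_eq_mul] at e1 e2
    refine mul_left_cancel₀ hI (mul_left_cancel₀ h01 ?_)
    rw [e1, show (χ₀ : G → ℂ) 1 * ((Nat.card (inertia L θ) : ℂ) *
        ((χ : G → ℂ) 1 / (χ₀ : G → ℂ) 1 * (χ₀ : G → ℂ) l)) =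
        (χ : G → ℂ) 1 * ((Nat.card (inertia L θ) : ℂ) * (χ₀ : G → ℂ) l) by field_simp, e2, d1, d2]
    ring
  have horth : ∀ χ : IrrCharacter G, classInner (fun l : L => (χ : G → ℂ) l) θ = 0 →
      classInner (fun l : L => (χ : G → ℂ) l) r₀ = 0 := by
    intro χ hχ
    have hI := card_ne_zero_complex (inertia L θ)
    have hb := clifford_avg L χ₀.2 hθ h₀
    have h : classInner (fun l : L => (χ : G → ℂ) l)
        ((Nat.card (inertia L θ) : ℂ) • r₀) = 0 := by
      rw [hb, CharBasic.classInner_smul_right, CharBasic.classInner_sum_right,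
        Finset.sum_eq_zero fun x _ => by
          rw [classInner_res_conjFun L (IsIrr.isClassFunction χ.2), hχ], mul_zero]
    rw [CharBasic.classInner_smul_right, Complex.conj_natCast] at h
    exact (mul_eq_zero.1 h).resolve_left hI
  have hinv : ∀ g : G, conjFun L (fun l => conj (r₀ l)) g = fun l => conj (r₀ l) := fun g =>
    funext fun l => congrArg conj (IsIrr.isClassFunction χ₀.2 (l : G) g)
  intro x hx
  have h0 : ∑ l : L, conj (r₀ l) * wsum U ((l : G) * x) = 0 :=
    Finset.sum_eq_zero fun l _ => by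
      rw [hvan _ ((dvd_orderOf_mul_iff L hL l.2 x).2 hx), mul_zero]
  have key : ∀ χ : IrrCharacter G,
      ∑ l : L, conj (r₀ l) * ((χ : G → ℂ) 1 * (χ : G → ℂ) ((l : G) * x)) =
        if classInner (fun l : L => (χ : G → ℂ) l) θ ≠ 0 then
          (Nat.card L : ℂ) * s / (χ₀ : G → ℂ) 1 * ((χ : G → ℂ) 1 * (χ : G → ℂ) x) else 0 := by
    intro χ
    have h := sum_normal_mul_apply hinv χ x
    have hc : ∑ n : L, conj (r₀ n) * (χ : G → ℂ) n =
        (Nat.card L : ℂ) * classInner (fun l : L => (χ : G → ℂ) l) r₀ := by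
      rw [classInner_def, ← mul_assoc, mul_inv_cancel₀ (card_ne_zero_complex L), one_mul]
      exact Finset.sum_congr rfl fun n _ => mul_comm _ _
    rw [hc] at h
    rw [show ∑ l : L, conj (r₀ l) * ((χ : G → ℂ) 1 * (χ : G → ℂ) ((l : G) * x)) =
        (χ : G → ℂ) 1 * ∑ l : L, conj (r₀ l) * (χ : G → ℂ) ((l : G) * x) by
      rw [Finset.mul_sum]; exact Finset.sum_congr rfl fun l _ => by ring, h]
    split_ifs with hχ
    · rw [show (fun l : L => (χ : G → ℂ) l) = ((χ : G → ℂ) 1 / (χ₀ : G → ℂ) 1) • r₀ from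
        funext (hprop χ hχ), classInner_smul_left, ← hs]
      ring
    · rw [horth χ (not_not.1 hχ)]
      ring
  simp only [wsum, Finset.mul_sum] at h0
  rw [Finset.sum_comm, Finset.sum_congr rfl (fun χ _ => key χ), ← Finset.sum_filter,
    ← Finset.mul_sum] at h0
  exact (mul_eq_zero.1 h0).resolve_left
    (div_ne_zero (mul_ne_zero (card_ne_zero_complex L) hs0) h01)

/-- The case of an invariant character. -/
theorem integ_of_invariant (hM : IsPModular p M) (hs : IsPSolvable p G) {L : Subgroup G}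
    [L.Normal] [Fintype L] (hLdef : L = pPrimeCore p G) {θ : L → ℂ} (hθ : IsIrrCharacter L θ)
    (hinv : ∀ g : G, conjFun L θ g = θ) {U : Finset (IrrCharacter G)}
    (hover : ∀ χ ∈ U, classInner (fun l : L => (χ : G → ℂ) l) θ ≠ 0)
    (hvan : Vanish p U) : Integ M U := by
  classical
  have hL : ¬ p ∣ Nat.card L := hLdef ▸ Cores.not_dvd_card_pPrimeCore
  let _ : Fintype (pPrimePCore p G) := Fintype.ofFinite _
  have hidx : ∃ k, (L.subgroupOf (pPrimePCore p G)).index = p ^ k := by
    obtain ⟨k, hk⟩ := IsPGroup.iff_card.mp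
      (Cores.pCore_isPGroup (p := p) (G := G ⧸ pPrimeCore p G))
    exact ⟨k, by rw [hLdef, ← hk, ← Cores.map_pPrimePCore, Cores.card_map_mk']; rfl⟩
  have hsupp := wsum_eq_zero_of_not_mem (hLdef.le.trans Cores.pPrimeCore_le_pPrimePCore) hL hidx hθ
    hinv (fun x hx h => hLdef.ge (mem_pPrimeCore_of_regular hs hx fun q hq => hLdef.le (h q hq)))
    U hover hvan
  obtain ⟨d, hd, hd'⟩ := IsIrr.exists_degree hθ
  have hd0 : (d : ℂ) ≠ 0 := Nat.cast_ne_zero.2 hd.ne'
  set W := wsum U 1
  have hval : ∀ l : L, wsum U (l : G) = W / (d : ℂ) * θ l := fun l => by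
    rw [show W = wsum U 1 from rfl, wsum, wsum, Finset.sum_div, Finset.sum_mul]
    refine Finset.sum_congr rfl fun χ hχ => ?_
    have hr := res_eq_smul_of_invariant L χ.2 hθ hinv (hover χ hχ)
    have h1 := congrFun hr l
    have h2 := congrFun hr 1
    simp only [Pi.smul_apply, smul_eq_mul, OneMemClass.coe_one] at h1 h2
    rw [h1, h2, hd']
    field_simp
  have hnorm : (Nat.card G : ℂ) * W = (Nat.card L : ℂ) * (W / (d : ℂ)) ^ 2 := by
    have hW : conj (W / (d : ℂ)) = W / (d : ℂ) := by
      rw [map_div₀, conj_wsum_one, Complex.conj_natCast]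
    have h2 := classInner_irr_self hθ
    rw [classInner_def] at h2
    rw [← sum_normSq_wsum U, Complex.ofReal_sum]
    simp only [← Complex.mul_conj]
    rw [← Finset.sum_subset (Finset.subset_univ (Finset.univ.filter (· ∈ L))) fun g _ hg => by
      rw [hsupp g fun h => hg (Finset.mem_filter.2 ⟨Finset.mem_univ _, h⟩), zero_mul],
      Finset.sum_subtype (Finset.univ.filter (· ∈ L)) (p := (· ∈ L)) (fun g => by simp)
        (fun g => wsum U g * conj (wsum U g))]
    calc ∑ l : L, wsum U (l : G) * conj (wsum U (l : G))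
        = ∑ l : L, (W / (d : ℂ)) ^ 2 * (θ l * conj (θ l)) :=
          Finset.sum_congr rfl fun l _ => by rw [hval, map_mul, hW]; ring
      _ = (Nat.card L : ℂ) * (W / (d : ℂ)) ^ 2 := by
          rw [← Finset.mul_sum]
          have h3 : ∑ l : L, θ l * conj (θ l) = (Nat.card L : ℂ) := by
            rw [← mul_right_inj' (inv_ne_zero (card_ne_zero_complex L)), h2,
              inv_mul_cancel₀ (card_ne_zero_complex L)]
          rw [h3, mul_comm]
  intro g
  by_cases hg : g ∈ L
  · rw [show wsum U g = W / (d : ℂ) * θ ⟨g, hg⟩ from hval ⟨g, hg⟩]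
    by_cases hW0 : W = 0
    · rw [hW0, zero_div, zero_mul, zero_div]
      exact memLocalRing_of_isIntegral hM isIntegral_zero
    · have hG := card_ne_zero_complex G
      have hLc := card_ne_zero_complex L
      have : W / (d : ℂ) * θ ⟨g, hg⟩ / (Nat.card G : ℂ) =
          (d : ℂ) * θ ⟨g, hg⟩ * ((Nat.card L : ℂ))⁻¹ := by
        field_simp at hnorm
        field_simp
        linear_combination (-θ ⟨g, hg⟩) * hnorm
      rw [this]
      exact memLocalRing_mul hM (memLocalRing_mul hM (memLocalRing_natCast hM d)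
        (memLocalRing_of_isIntegral hM (IsChar.isIntegral (IsIrr.isCharacter hθ) _)))
        (memLocalRing_natCast_inv hM hL)
  · rw [hsupp g hg, zero_div]
    exact memLocalRing_of_isIntegral hM isIntegral_zero

/-- The case of a character with a proper inertia group. -/
theorem integ_of_inertia (hM : IsPModular p M) {L : Subgroup G} [L.Normal] [Fintype L]
    (hL : ¬ p ∣ Nat.card L) {θ : L → ℂ} (hθ : IsIrrCharacter L θ) [Fintype (inertia L θ)]
    (hT : ∀ V : Finset (IrrCharacter (inertia L θ)), Vanish p V → Integ M V)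
    {U : Finset (IrrCharacter G)}
    (hover : ∀ χ ∈ U, classInner (fun l : L => (χ : G → ℂ) l) θ ≠ 0) (hvan : Vanish p U) :
    Integ M U := by
  classical
  set T := inertia L θ with hTdef
  have hle : L ≤ T := le_inertia L (IsIrr.isClassFunction hθ)
  let _ : Fintype (L.subgroupOf T) := Fintype.ofFinite _
  let e := Subgroup.subgroupOfEquivOfLe hle
  have hcor : ∀ χ : U, ∃ φ : IrrCharacter T, indFun T (φ : T → ℂ) = ((χ : IrrCharacter G) : G → ℂ) ∧
      ∃ f : ℕ, ∀ n : L, (φ : T → ℂ) ⟨n, hle n.2⟩ = (f : ℂ) * θ n := by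
    intro χ
    obtain ⟨φ, hφ, hind, f, -, hres⟩ := exists_clifford_correspondent L χ.1.2 hθ (hover _ χ.2)
    exact ⟨⟨φ, hφ⟩, hind, f, hres⟩
  choose φ hind f hres using hcor
  have hinjφ : Function.Injective φ := fun a b h => Subtype.ext (Subtype.ext (by
    rw [← hind a, ← hind b, h]))
  set V := (Finset.univ : Finset U).image φ
  have hone : ∀ χ : U, ((χ : IrrCharacter G) : G → ℂ) 1 =
      (T.index : ℂ) * (φ χ : T → ℂ) 1 := fun χ => by
    rw [← hind χ, indFun_one]
  -- the projection of a member to the inertia group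
  have hproj : ∀ (χ : U) (t : T),
      θ 1 * ∑ l : L, conj (θ l) * ((χ : IrrCharacter G) : G → ℂ) ((l : G) * (t : G)) =
        (Nat.card L : ℂ) * (φ χ : T → ℂ) t := by
    intro χ t
    obtain ⟨hcnt, huniq⟩ := correspondent_spec L hle χ.1.2 hθ (φ χ).2 (hind χ) (f χ) (hres χ)
    have hexp := classFunction_expansion
      (CharBasic.IsChar.isClassFunction (IsChar.res (IsIrr.isCharacter χ.1.2) T))
    have hm1 : classInner (fun s : T => ((χ : IrrCharacter G) : G → ℂ) s) (φ χ : T → ℂ) = 1 := by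
      rw [← classInner_indFun_right T (φ χ : T → ℂ) _ (IsIrr.isClassFunction χ.1.2), hind χ,
        classInner_irr_self χ.1.2]
    have hterm : ∀ ψ : IrrCharacter T,
        θ 1 * ∑ l : L, conj (θ l) * (classInner (fun s : T => ((χ : IrrCharacter G) : G → ℂ) s)
          (ψ : T → ℂ) * (ψ : T → ℂ) (⟨l, hle l.2⟩ * t)) =
        if ψ = φ χ then (Nat.card L : ℂ) * (φ χ : T → ℂ) t else 0 := by
      intro ψ
      have h := sum_normal_mul_apply (G := T) (N := L.subgroupOf T)
        (f := fun n => conj (θ (e n))) (fun g => funext fun n => by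
          simp only [CharInduce.conjFun]
          congr 1
          refine Eq.trans ?_ (congrFun (mem_inertia L |>.1 g.2) (e n))
          rfl) ψ t
      have hl : ∀ F : T → ℂ, ∑ n : L.subgroupOf T, conj (θ (e n)) * F n =
          ∑ l : L, conj (θ l) * F ⟨l, hle l.2⟩ := fun F =>
        Fintype.sum_equiv e.toEquiv _ _ fun n => rfl
      rw [hl (fun s => (ψ : T → ℂ) (s * t)), hl (ψ : T → ℂ)] at h
      have hc : ∑ l : L, conj (θ l) * (ψ : T → ℂ) ⟨l, hle l.2⟩ =
          (Nat.card L : ℂ) * classInner (resTo L hle (ψ : T → ℂ)) θ := by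
        rw [classInner_def, ← mul_assoc, mul_inv_cancel₀ (card_ne_zero_complex L), one_mul]
        exact Finset.sum_congr rfl fun n _ => mul_comm _ _
      rw [hc] at h
      set m := classInner (fun s : T => ((χ : IrrCharacter G) : G → ℂ) s) (ψ : T → ℂ) with hm
      have hswap : ∑ l : L, conj (θ l) * (m * (ψ : T → ℂ) (⟨l, hle l.2⟩ * t)) =
          m * ∑ l : L, conj (θ l) * (ψ : T → ℂ) (⟨l, hle l.2⟩ * t) := by
        rw [Finset.mul_sum]
        exact Finset.sum_congr rfl fun l _ => by ring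
      rw [hswap]
      refine mul_left_cancel₀ (IsIrr.one_ne_zero ψ.2) ?_
      rw [show (ψ : T → ℂ) 1 * (θ 1 * (m * ∑ l : L, conj (θ l) *
          (ψ : T → ℂ) (⟨l, hle l.2⟩ * t))) = θ 1 * m * ((ψ : T → ℂ) 1 *
          ∑ l : L, conj (θ l) * (ψ : T → ℂ) (⟨l, hle l.2⟩ * t)) by ring, h]
      by_cases hψ : ψ = φ χ
      · subst hψ
        rw [if_pos rfl, hm, hm1]
        have hr : resTo L hle (φ χ : T → ℂ) = (f χ : ℂ) • θ := funext (hres χ)
        have h1 : (φ χ : T → ℂ) 1 = (f χ : ℂ) * θ 1 := hres χ 1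
        rw [hr, classInner_smul_left, classInner_irr_self hθ, h1]
        ring
      · rw [if_neg hψ]
        by_cases hm0 : m = 0
        · rw [hm0]; ring
        · have : classInner (resTo L hle (ψ : T → ℂ)) θ = 0 := by
            by_contra h0
            exact hψ (Subtype.ext (huniq _ ψ.2 hm0 h0))
          rw [this]; ring
    have hx : ∀ l : L, ((χ : IrrCharacter G) : G → ℂ) ((l : G) * (t : G)) =
        ∑ ψ : IrrCharacter T, classInner (fun s : T => ((χ : IrrCharacter G) : G → ℂ) s)
          (ψ : T → ℂ) * (ψ : T → ℂ) (⟨l, hle l.2⟩ * t) := fun l => by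
      have := congrFun hexp (⟨l, hle l.2⟩ * t)
      simpa [Finset.sum_apply] using this
    simp only [hx, Finset.mul_sum (s := (Finset.univ : Finset (IrrCharacter T)))]
    rw [Finset.sum_comm, Finset.mul_sum, Finset.sum_congr rfl (fun ψ _ => hterm ψ),
      Finset.sum_ite_eq' Finset.univ (φ χ) fun _ => (Nat.card L : ℂ) * (φ χ : T → ℂ) t,
      if_pos (Finset.mem_univ _)]
  have hV : ∀ t : T, wsum V t = ∑ χ : U, (φ χ : T → ℂ) 1 * (φ χ : T → ℂ) t := fun t => by
    rw [wsum, Finset.sum_image fun a _ b _ h => hinjφ h]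
  have hidx0 : (T.index : ℂ) ≠ 0 := Nat.cast_ne_zero.2 Subgroup.FiniteIndex.index_ne_zero
  have hvanV : Vanish p V := by
    intro t ht
    have h0 : θ 1 * ∑ l : L, conj (θ l) * wsum U ((l : G) * (t : G)) = 0 := by
      rw [Finset.sum_eq_zero, mul_zero]
      intro l _
      rw [hvan _ ((dvd_orderOf_mul_iff L hL l.2 _).2 (by rwa [Subgroup.orderOf_coe])), mul_zero]
    have h1 : θ 1 * ∑ l : L, conj (θ l) * wsum U ((l : G) * (t : G)) =
        (T.index : ℂ) * (Nat.card L : ℂ) * wsum V t := by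
      rw [hV, Finset.mul_sum (a := (T.index : ℂ) * (Nat.card L : ℂ))]
      simp only [wsum, ← Finset.sum_coe_sort U, Finset.mul_sum]
      rw [Finset.sum_comm]
      refine Finset.sum_congr rfl fun χ _ => ?_
      rw [show ∑ l : L, θ 1 * (conj (θ l) * (((χ : IrrCharacter G) : G → ℂ) 1 *
          ((χ : IrrCharacter G) : G → ℂ) ((l : G) * (t : G)))) =
          ((χ : IrrCharacter G) : G → ℂ) 1 * (θ 1 * ∑ l : L, conj (θ l) *
            ((χ : IrrCharacter G) : G → ℂ) ((l : G) * (t : G))) by
        simp only [Finset.mul_sum]; exact Finset.sum_congr rfl fun l _ => by ring, hproj, hone]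
      ring
    rw [h1] at h0
    exact (mul_eq_zero.1 h0).resolve_left (mul_ne_zero hidx0 (card_ne_zero_complex L))
  have hint := hT V hvanV
  intro g
  let E : G → ℂ := fun x => extendByZero T (wsum V) (x⁻¹ * g * x)
  have hw : wsum U g = (T.index : ℂ) * ((Nat.card T : ℂ)⁻¹ * ∑ x : G, E x) := by
    show _ = (T.index : ℂ) * indFun T (wsum V) g
    have hlin : indFun T (wsum V) = ∑ χ : U, (φ χ : T → ℂ) 1 • indFun T (φ χ : T → ℂ) := by
      funext y
      simp only [indFun_apply, Finset.sum_apply, Pi.smul_apply, smul_eq_mul, Finset.mul_sum]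
      rw [Finset.sum_comm]
      refine Finset.sum_congr rfl fun x _ => ?_
      by_cases hx : x⁻¹ * y * x ∈ T
      · simp only [extendByZero_of_mem _ hx, hV, Finset.mul_sum]
        exact Finset.sum_congr rfl fun χ _ => by ring
      · simp [extendByZero_of_not_mem _ hx]
    rw [hlin]
    simp only [Finset.sum_apply, Pi.smul_apply, smul_eq_mul, Finset.mul_sum, wsum, hind]
    rw [← Finset.sum_coe_sort U]
    exact Finset.sum_congr rfl fun χ _ => by rw [hone χ]; ring
  have hconst : ∀ (x : G) (t : T), E (x * t) = E x := fun x t => by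
    simp only [E]
    rw [show (x * (t : G))⁻¹ * g * (x * t) = ((t : G))⁻¹ * (x⁻¹ * g * x) * ((t : G))⁻¹⁻¹ by group]
    exact extendByZero_conj (isClassFunction_wsum V) (T.inv_mem t.2) _
  let _ : Fintype (G ⧸ T) := Fintype.ofFinite _
  have hsum : ∑ x : G, E x = (Nat.card T : ℂ) * ∑ q : G ⧸ T, E q.out := by
    rw [Fintype.sum_equiv Subgroup.groupEquivQuotientProdSubgroup E
      (fun y : (G ⧸ T) × T => E y.1.out) fun x => ?_, Fintype.sum_prod_type]
    · simp only [Finset.sum_const, Finset.card_univ, nsmul_eq_mul, Finset.mul_sum,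
        Nat.card_eq_fintype_card]
    · show E x = E (x : G ⧸ T).out
      obtain ⟨t, ht⟩ := QuotientGroup.mk_out_eq_mul T x
      rw [ht, hconst]
  rw [hw, hsum, ← T.card_mul_index]
  have e1 : (T.index : ℂ) * ((Nat.card T : ℂ)⁻¹ * ((Nat.card T : ℂ) * ∑ q : G ⧸ T, E q.out)) /
      ((Nat.card T * T.index : ℕ) : ℂ) = ∑ q : G ⧸ T, E q.out / (Nat.card T : ℂ) := by
    push_cast
    rw [← Finset.sum_div]
    have := card_ne_zero_complex T
    field_simp
  rw [e1]
  refine (locRing hM).sum_mem fun q _ => ?_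
  simp only [E]
  by_cases hq : q.out⁻¹ * g * q.out ∈ T
  · rw [extendByZero_of_mem _ hq]
    exact hint _
  · rw [extendByZero_of_not_mem _ hq, zero_div]
    exact memLocalRing_of_isIntegral hM isIntegral_zero

end Cfsg.Agent.H25.WeightedSum
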