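import Cfsg.Agent.H25.WeightedSum.Basic
import Cfsg.Agent.Cores.Constrained

/-!
# Regular elements in cosets of normal subgroups; invariant extensions
-/

set_option linter.unusedSectionVars false
set_option linter.style.haveILetI false

namespace Cfsg.Agent.H25.WeightedSum

open CharBasic CharInduce

universe u

variable {G : Type u} [Group G] [Finite G] {p : ℕ} [hp : Fact p.Prime]

/-- Regularity only depends on the coset modulo a normal subgroup of order prime to `p`. -/
theorem dvd_orderOf_mk_iff (L : Subgroup G) [L.Normal] (hL : ¬ p ∣ Nat.card L) (x : G) :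
    p ∣ orderOf (x : G ⧸ L) ↔ p ∣ orderOf x := by
  refine ⟨fun h => h.trans (orderOf_map_dvd (QuotientGroup.mk' L) x), fun h => ?_⟩
  have hmem : x ^ orderOf (x : G ⧸ L) ∈ L := by
    rw [← QuotientGroup.eq_one_iff, QuotientGroup.mk_pow, pow_orderOf_eq_one]
  have h1 : (x ^ orderOf (x : G ⧸ L)) ^ Nat.card L = 1 := by
    have := congrArg Subtype.val (pow_card_eq_one' (x := (⟨_, hmem⟩ : L)))
    simpa only [SubmonoidClass.coe_pow, OneMemClass.coe_one] using this
  rw [← pow_mul] at h1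
  exact ((Nat.Prime.dvd_mul hp.out).1 (h.trans (orderOf_dvd_of_pow_eq_one h1))).resolve_right hL

theorem dvd_orderOf_mul_iff (L : Subgroup G) [L.Normal] (hL : ¬ p ∣ Nat.card L) {l : G}
    (hl : l ∈ L) (x : G) : p ∣ orderOf (l * x) ↔ p ∣ orderOf x := by
  rw [← dvd_orderOf_mk_iff L hL, ← dvd_orderOf_mk_iff L hL x, QuotientGroup.mk_mul,
    (QuotientGroup.eq_one_iff l).2 hl, one_mul]

/-- Regular elements in a coset of a `p`-subgroup normalised by them are conjugate. -/
theorem exists_conj_regular (Q : Subgroup G) [Q.Normal] (hQ : IsPGroup p Q) {x y : G}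
    (hx : ¬ p ∣ orderOf x) (hy : ¬ p ∣ orderOf y) (hxy : y * x⁻¹ ∈ Q) :
    ∃ q ∈ Q, q * x * q⁻¹ = y := by
  classical
  set C : Subgroup Q := (Subgroup.centralizer ({x} : Set G)).subgroupOf Q
  have hC : ∀ c : Q, c ∈ C ↔ (c : G) * x = x * c := fun c => by
    rw [Subgroup.mem_subgroupOf, Subgroup.mem_centralizer_singleton_iff]
  let r : Q → Q := fun q => (Quotient.out (q : Q ⧸ C))
  have hrc : ∀ q : Q, (r q)⁻¹ * q ∈ C := fun q =>
    QuotientGroup.eq.1 (Quotient.out_eq (q : Q ⧸ C))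
  let c : Q → Q := fun q => (r q)⁻¹ * q
  let F : Q → Q := fun q => ⟨((r q : G) * ((c q : G) * x) * (r q : G)⁻¹) * x⁻¹, by
    rw [show ((r q : G) * ((c q : G) * x) * (r q : G)⁻¹) * x⁻¹ =
      ((r q : G) * (c q : G)) * (x * (r q : G)⁻¹ * x⁻¹) by group]
    exact Q.mul_mem (Q.mul_mem (r q).2 (c q).2)
      (Subgroup.Normal.conj_mem inferInstance _ (Q.inv_mem (r q).2) x)⟩
  -- a power of the exponent prime to `p` recovers `x`
  obtain ⟨k, hk⟩ := IsPGroup.iff_card.1 hQ
  have hcop : (p ^ k).Coprime (orderOf x) := ((hp.out.coprime_iff_not_dvd).2 hx).pow_left k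
  obtain ⟨N, hN0, hN1⟩ : ∃ N : ℕ, N ≡ 0 [MOD p ^ k] ∧ N ≡ 1 [MOD orderOf x] :=
    ⟨_, (Nat.chineseRemainder hcop 0 1).2⟩
  have hpow : ∀ e : Q, (e : G) * x = x * e → ((e : G) * x) ^ N = x := fun e he => by
    rw [Commute.mul_pow he]
    have h1 : (e : G) ^ N = 1 := by
      have h2 : e ^ N = 1 := orderOf_dvd_iff_pow_eq_one.1 ((orderOf_dvd_natCard e).trans
        (hk ▸ (Nat.modEq_zero_iff_dvd.1 hN0)))
      simpa using congrArg Subtype.val h2
    rw [h1, one_mul]
    exact (pow_eq_pow_iff_modEq.2 hN1).trans (pow_one x)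
  have hconjpow : ∀ q : Q, ((r q : G) * ((c q : G) * x) * (r q : G)⁻¹) ^ N =
      (r q : G) * x * (r q : G)⁻¹ := fun q => by
    rw [conj_pow, hpow _ ((hC _).1 (hrc q))]
  have hinj : Function.Injective F := fun q q' h => by
    have h1 : (r q : G) * ((c q : G) * x) * (r q : G)⁻¹ =
        (r q' : G) * ((c q' : G) * x) * (r q' : G)⁻¹ :=
      mul_right_cancel (congrArg Subtype.val h)
    have h2 := congrArg (· ^ N) h1
    simp only [hconjpow] at h2
    have h3 : (r q)⁻¹ * r q' ∈ C := (hC _).2 (by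
      push_cast
      calc (r q : G)⁻¹ * (r q' : G) * x
          = (r q : G)⁻¹ * ((r q' : G) * x * (r q' : G)⁻¹) * (r q' : G) := by group
        _ = _ := by rw [← h2]; group)
    have h4 : (q : Q ⧸ C) = (q' : Q ⧸ C) := by
      have h5 := QuotientGroup.eq.2 h3
      rwa [show ((r q : Q) : Q ⧸ C) = q from Quotient.out_eq _,
        show ((r q' : Q) : Q ⧸ C) = q' from Quotient.out_eq _] at h5
    have h6 : r q = r q' := congrArg Quotient.out h4
    rw [h6] at h1
    have h7 : c q = c q' := Subtype.ext (mul_right_cancel (mul_left_cancel (mul_right_cancel h1)))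
    calc q = r q * c q := (mul_inv_cancel_left (r q) q).symm
      _ = r q' * c q' := by rw [h6, h7]
      _ = q' := mul_inv_cancel_left (r q') q'
  obtain ⟨q, hq⟩ := (Finite.injective_iff_surjective.1 hinj) ⟨_, hxy⟩
  have hyq : (r q : G) * ((c q : G) * x) * (r q : G)⁻¹ = y :=
    mul_right_cancel (congrArg Subtype.val hq)
  have hcx : Commute (c q : G) x := (hC _).1 (hrc q)
  have hc1 : (c q : G) = 1 := by
    have ho : ¬ p ∣ orderOf ((c q : G) * x) := fun h => hy (by
      rw [← hyq]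
      exact h.trans (dvd_of_eq (orderOf_injective (MulAut.conj (r q : G)).toMonoidHom
        (MulAut.conj (r q : G)).injective _).symm))
    have hcQ : (c q : G) = ((c q : G) * x) * x⁻¹ := (mul_inv_cancel_right _ _).symm
    obtain ⟨j, hj⟩ := hQ (c q)
    have hj' : (c q : G) ^ p ^ j = 1 := by simpa using congrArg Subtype.val hj
    have h1 : orderOf (c q : G) ∣ p ^ j := orderOf_dvd_of_pow_eq_one hj'
    have h2 : orderOf (c q : G) ∣ orderOf ((c q : G) * x) * orderOf x := by
      refine orderOf_dvd_of_pow_eq_one ?_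
      calc (c q : G) ^ (orderOf ((c q : G) * x) * orderOf x)
          = (((c q : G) * x) * x⁻¹) ^ (orderOf ((c q : G) * x) * orderOf x) := by rw [← hcQ]
        _ = 1 := ?_
      rw [Commute.mul_pow ((hcx.mul_left (Commute.refl x)).inv_right), pow_mul,
        pow_orderOf_eq_one, one_pow, one_mul, inv_pow, mul_comm, pow_mul, pow_orderOf_eq_one,
        one_pow, inv_one]
    exact orderOf_eq_one_iff.1 (Nat.eq_one_of_dvd_coprimes
      ((((hp.out.coprime_iff_not_dvd).2 ho).mul_right ((hp.out.coprime_iff_not_dvd).2 hx)).pow_left j)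
      h1 h2)
  rw [hc1, one_mul] at hyq
  exact ⟨_, (r q).2, hyq⟩

/-- The quotient of the upper `p`-core detects regular elements commuting with it. -/
theorem mem_pPrimeCore_of_regular (hs : IsPSolvable p G) {x : G} (hx : ¬ p ∣ orderOf x)
    (h : ∀ q ∈ pPrimePCore p G, q * x * q⁻¹ * x⁻¹ ∈ pPrimeCore p G) : x ∈ pPrimeCore p G := by
  have hxC : (x : G ⧸ pPrimeCore p G) ∈
      Subgroup.centralizer (pCore p (G ⧸ pPrimeCore p G) : Set (G ⧸ pPrimeCore p G)) := by
    refine Subgroup.mem_centralizer_iff.2 fun z hz => ?_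
    rw [SetLike.mem_coe, ← Cores.map_pPrimePCore] at hz
    obtain ⟨q, hq, rfl⟩ := Subgroup.mem_map.1 hz
    have h1 := (QuotientGroup.eq_one_iff _).2 (h q hq)
    simp only [QuotientGroup.mk_mul, QuotientGroup.mk_inv] at h1
    exact mul_inv_eq_iff_eq_mul.1 (mul_inv_eq_one.1 h1)
  have hxP := Cores.centralizer_pCore_le (Cores.isPSolvable_quotient hs _)
    Cores.pPrimeCore_quotient_pPrimeCore hxC
  obtain ⟨j, hj⟩ := Cores.pCore_isPGroup ⟨_, hxP⟩
  have hj' : (x : G ⧸ pPrimeCore p G) ^ p ^ j = 1 := congrArg Subtype.val hj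
  rw [← QuotientGroup.eq_one_iff, ← orderOf_eq_one_iff]
  exact Nat.eq_one_of_dvd_coprimes (((hp.out.coprime_iff_not_dvd).2 hx).pow_left j)
    (orderOf_dvd_of_pow_eq_one hj') (orderOf_map_dvd (QuotientGroup.mk' _) x)

/-- The determinant of a character pulled back along a homomorphism. -/
theorem detChar_comp {H : Type u} [Group H] [Finite H] (f : G →* H) {χ : H → ℂ}
    (h : IsCharacter H χ) : detChar (fun g => χ (f g)) = fun g => detChar χ (f g) := by
  obtain ⟨n, ρ, rfl⟩ := h
  rw [detChar_eq ρ rfl]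
  refine (detChar_eq (G := G) (MonoidHom.comp ρ f : Representation ℂ G _) (χ := fun g => ρ.character (f g)) rfl).trans ?_
  rfl

/-- An invariant character of a normal `p'`-subgroup has an extension to a normal subgroup of
`p`-power index over it, invariant under the whole group. -/
theorem exists_invariant_extension {N L : Subgroup G} [hNn : N.Normal] [hLn : L.Normal]
    (hLN : L ≤ N) (hL : ¬ p ∣ Nat.card L) (hidx : ∃ k, (L.subgroupOf N).index = p ^ k)
    {θ : L → ℂ} (hθ : IsIrrCharacter L θ) (hinv : ∀ g : G, conjFun L θ g = θ) :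
    ∃ ϑ : N → ℂ, IsIrrCharacter N ϑ ∧ (∀ l : L, ϑ ⟨l, hLN l.2⟩ = θ l) ∧
      ∀ g : G, conjFun N ϑ g = ϑ := by
  classical
  cases nonempty_fintype G
  set L' := L.subgroupOf N
  let e : L' ≃* L := Subgroup.subgroupOfEquivOfLe hLN
  let θ' : L' → ℂ := fun a => θ (e a)
  have hθ' : IsIrrCharacter L' θ' := IsIrr.comp hθ e.toMonoidHom e.surjective
  have hinv' : ∀ (g : N) (a : L'), θ' ⟨g * a * g⁻¹, (inferInstance : L'.Normal).conj_mem a a.2 g⟩
      = θ' a := fun g a => by
    refine Eq.trans ?_ (congrFun (hinv (g : G)) (e a))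
    simp only [conjFun, θ']
    congr 1
  obtain ⟨d, -, hd⟩ := IsIrr.exists_degree hθ'
  obtain ⟨k, hk⟩ := hidx
  have hcopL : ∀ a : ℕ, a ∣ Nat.card L' → Nat.Coprime L'.index a := fun a ha => by
    rw [hk]
    refine ((hp.out.coprime_iff_not_dvd).2 fun h => hL ?_).pow_left k
    rw [← Nat.card_congr e.toEquiv]
    exact h.trans ha
  obtain ⟨D, hD⟩ := exists_detChar_eq_hom (IsIrr.isCharacter hθ')
  have hDo : orderOf D ∣ Nat.card L' := orderOf_hom_dvd_card D
  have hdet : detOrder θ' = orderOf D := by rw [detOrder, hD, orderOf_homFun]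
  have hdd : d ∣ Nat.card L' := by
    obtain ⟨d', hd', hdvd⟩ : ∃ d' : ℕ, θ' 1 = d' ∧ d' ∣ Nat.card L' :=
      ⟨_, BlockBasic.apply_one_eq_charDegree ⟨θ', hθ'⟩, BlockBasic.charDegree_dvd ⟨θ', hθ'⟩⟩
    rw [hd] at hd'
    rwa [Nat.cast_inj.1 hd']
  obtain ⟨η, hη, hηres⟩ := exists_extension_of_coprime hθ' hinv' hd
    (by rw [hdet]; exact (hcopL _ hDo).mul_right (hcopL _ hdd))
  have hDinv : ∀ (g : N) (a : L'), D ⟨g * a * g⁻¹, (inferInstance : L'.Normal).conj_mem a a.2 g⟩
      = D a := fun g a => Units.ext (by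
    rw [← congrFun hD, ← congrFun hD, ← detChar_res L' (IsIrr.isCharacter hη) hηres,
      ← detChar_res L' (IsIrr.isCharacter hη) hηres]
    obtain ⟨D', hD'⟩ := exists_detChar_eq_hom (IsIrr.isCharacter hη)
    rw [hD']
    simp)
  obtain ⟨μ, hμ, hμo, hμuniq⟩ := exists_hom_extension_coprime D hDinv (hcopL _ hDo)
  have hμd : ∀ a : L', (μ a : ℂ) = detChar θ' a := fun a => by rw [hμ, hD]
  obtain ⟨ϑ, ⟨hϑ, hϑres, hϑdet⟩, huniq⟩ :=
    exists_unique_extension_det hθ' hd (hcopL _ hdd) hη hηres μ hμd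
  refine ⟨ϑ, hϑ, fun l => ?_, fun g => ?_⟩
  · refine (hϑres ⟨⟨l, hLN l.2⟩, l.2⟩).trans ?_
    rfl
  · set f : N →* N := (MulAut.conjNormal g).toMonoidHom with hfdef
    have hcf : conjFun N ϑ g = fun n => ϑ (f n) := conjFun_eq_comp N ϑ g
    have hfL : ∀ a : L', f a ∈ L' := fun a => by
      show (f a : G) ∈ L
      simpa [f] using hLn.conj_mem _ a.2 g
    have hext : ∀ a : L', ϑ (f a) = θ' a := fun a => by
      refine (hϑres ⟨f a, hfL a⟩).trans ?_
      refine Eq.trans ?_ (congrFun (hinv g) (e a))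
      simp only [conjFun, θ']
      congr 1
    have hμf : μ.comp f = μ := by
      refine hμuniq _ (fun a => Units.ext ?_) ?_
      · show (μ (f a) : ℂ) = (D a : ℂ)
        rw [← congrFun hD, ← congrFun hϑdet, ← congrFun (detChar_comp f (IsIrr.isCharacter hϑ))]
        refine detChar_res L' (CharBasic.IsIrr.isCharacter ?_) hext a
        exact IsIrr.comp hϑ f (MulAut.conjNormal g).surjective
      · refine (hcopL _ (hDo)).coprime_dvd_right ?_
        rw [← hμo]
        exact orderOf_map_dvd (MonoidHom.compHom' f) μ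
    rw [hcf]
    refine huniq _ ⟨IsIrr.comp hϑ f (MulAut.conjNormal g).surjective, hext, ?_⟩
    rw [detChar_comp f (IsIrr.isCharacter hϑ), hϑdet]
    funext n
    exact congrArg Units.val (DFunLike.congr_fun hμf n)

end Cfsg.Agent.H25.WeightedSum
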